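import Mathlib
import Cfsg.Agent.Lib.Helper5.QuadTwo.Two
import Cfsg.Agent.Lib.Helper5.QuadSign.GeoInst

set_option autoImplicit false

/-!
# The norm equation `P^σ P ≡ u` modulo a polynomial over the fixed field
-/

namespace Cfsg.Agent.Lib.Helper5.UnitConj

open Polynomial

universe u v

section key
variable {F₀ : Type u} {K : Type v} [Field F₀] [Field K] [Algebra F₀ K]

/-- a quadratic extension `K / F₀` with its involution `σ` -/
structure QuadExt (σ : K →+* K) (ω θ : K) (T N : F₀) : Prop where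
  fix : ∀ x : F₀, σ (algebraMap F₀ K x) = algebraMap F₀ K x
  inv : ∀ x, σ (σ x) = x
  tr : algebraMap F₀ K T = ω + σ ω
  nm : algebraMap F₀ K N = ω * σ ω
  th : θ + σ θ = 1
  disc : T ^ 2 - 4 * N ≠ 0

variable {σ : K →+* K} {ω θ : K} {T N : F₀} (E : QuadExt σ ω θ T N)

include E

theorem QuadExt.map_map (f : F₀[X]) :
    (f.map (algebraMap F₀ K)).map σ = f.map (algebraMap F₀ K) := by
  rw [Polynomial.map_map]
  congr 1
  exact RingHom.ext E.fix

theorem QuadExt.map_sigma_sigma (P : K[X]) : (P.map σ).map σ = P := by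
  rw [Polynomial.map_map]
  have : σ.comp σ = RingHom.id K := RingHom.ext E.inv
  rw [this, Polynomial.map_id]

/-- the norm form is universal over every finite extension of the fixed field -/
theorem QuadExt.exists_norm_eq {k : Type*} [Field k] [Finite k] [Algebra F₀ k] (c : k) :
    ∃ s s' : k, s ^ 2 + algebraMap F₀ k T * s * s' + algebraMap F₀ k N * s' ^ 2 = c := by
  classical
  have : Fintype k := Fintype.ofFinite k
  by_cases h2 : (2 : k) = 0
  · obtain ⟨s, hs⟩ := Cfsg.Agent.Lib.Helper5.QuadTwo.exists_sq h2 c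
    refine ⟨s, 0, ?_⟩
    rw [← hs]
    ring
  · have hodd := Cfsg.Agent.Lib.Helper5.QuadSign.odd_card_of_two_ne_zero h2
    obtain ⟨D, hD⟩ : ∃ D : k, D = algebraMap F₀ k (T ^ 2 - 4 * N) := ⟨_, rfl⟩
    have hD0 : D ≠ 0 := by
      rw [hD]
      exact (map_ne_zero_iff _ (algebraMap F₀ k).injective).mpr E.disc
    have h4 : (4 : k) ≠ 0 := by
      have : (4 : k) = 2 * 2 := by norm_num
      rw [this]
      exact mul_ne_zero h2 h2
    have hf : degree (C (1 : k) * X ^ 2 + C 0 * X + C 0) = 2 := degree_quadratic one_ne_zero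
    have hg : degree (C (-D / 4) * X ^ 2 + C 0 * X + C (-c)) = 2 :=
      degree_quadratic (div_ne_zero (neg_ne_zero.mpr hD0) h4)
    obtain ⟨a, b, hab⟩ := FiniteField.exists_root_sum_quadratic hf hg hodd
    simp only [eval_add, eval_mul, eval_C, eval_pow, eval_X] at hab
    refine ⟨a - algebraMap F₀ k T / 2 * b, b, ?_⟩
    have hD' : D = algebraMap F₀ k T ^ 2 - 4 * algebraMap F₀ k N := by
      rw [hD, map_sub, map_mul, map_pow, map_ofNat]
    have h2' : (2 : k) ≠ 0 := h2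
    have : c = a ^ 2 + -D / 4 * b ^ 2 := by linear_combination (-1 : k) * hab
    rw [this, hD']
    field_simp
    ring

/-- the base case: modulo an irreducible polynomial -/
theorem QuadExt.key_prime [Finite F₀] (π : F₀[X]) (hπ : Irreducible π) (u : F₀[X]) :
    ∃ P : K[X], π.map (algebraMap F₀ K) ∣ P.map σ * P - u.map (algebraMap F₀ K) := by
  have : Fact (Irreducible π) := ⟨hπ⟩
  have hne0 : π ≠ 0 := hπ.ne_zero
  have : Module.Finite F₀ (AdjoinRoot π) := (AdjoinRoot.powerBasis hne0).finite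
  have : Finite (AdjoinRoot π) := Module.finite_of_finite F₀
  obtain ⟨s, s', hs⟩ := E.exists_norm_eq (k := AdjoinRoot π) (AdjoinRoot.mk π u)
  obtain ⟨S₁, rfl⟩ := AdjoinRoot.mk_surjective s
  obtain ⟨S₂, rfl⟩ := AdjoinRoot.mk_surjective s'
  have hdvd : π ∣ S₁ ^ 2 + C T * S₁ * S₂ + C N * S₂ ^ 2 - u := by
    rw [← AdjoinRoot.mk_eq_zero, map_sub, map_add, map_add, map_mul, map_mul, map_mul, map_pow,
      map_pow, AdjoinRoot.mk_C, AdjoinRoot.mk_C, ← AdjoinRoot.algebraMap_eq, sub_eq_zero]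
    exact hs
  refine ⟨S₁.map (algebraMap F₀ K) + C ω * S₂.map (algebraMap F₀ K), ?_⟩
  have h1 : (S₁.map (algebraMap F₀ K) + C ω * S₂.map (algebraMap F₀ K)).map σ =
      S₁.map (algebraMap F₀ K) + C (σ ω) * S₂.map (algebraMap F₀ K) := by
    rw [Polynomial.map_add, Polynomial.map_mul, E.map_map, E.map_map, Polynomial.map_C]
  have h2 : (S₁.map (algebraMap F₀ K) + C (σ ω) * S₂.map (algebraMap F₀ K)) *
      (S₁.map (algebraMap F₀ K) + C ω * S₂.map (algebraMap F₀ K)) - u.map (algebraMap F₀ K) =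
      (S₁ ^ 2 + C T * S₁ * S₂ + C N * S₂ ^ 2 - u).map (algebraMap F₀ K) := by
    rw [Polynomial.map_sub, Polynomial.map_add, Polynomial.map_add, Polynomial.map_mul,
      Polynomial.map_mul, Polynomial.map_mul, Polynomial.map_pow, Polynomial.map_pow,
      Polynomial.map_C, Polynomial.map_C, E.tr, E.nm, C_add, C_mul]
    ring
  rw [h1, h2]
  exact Polynomial.map_dvd _ hdvd

/-- the lifting step -/
theorem QuadExt.key_step (m : F₀[X]) (hm : m ≠ 0) (u : F₀[X]) (hu : IsCoprime u m) (e : ℕ)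
    (he : 1 ≤ e) (P : K[X])
    (hP : (m ^ e).map (algebraMap F₀ K) ∣ P.map σ * P - u.map (algebraMap F₀ K)) :
    ∃ P' : K[X],
      (m ^ (e + 1)).map (algebraMap F₀ K) ∣ P'.map σ * P' - u.map (algebraMap F₀ K) := by
  obtain ⟨ν, hν⟩ : ∃ ν : K[X], ν = m.map (algebraMap F₀ K) := ⟨_, rfl⟩
  have hνσ : ν.map σ = ν := by rw [hν, E.map_map]
  have hν0 : ν ≠ 0 := by
    rw [hν]
    exact (Polynomial.map_ne_zero_iff (algebraMap F₀ K).injective).mpr hm
  obtain ⟨U, hU⟩ : ∃ U : K[X], U = u.map (algebraMap F₀ K) := ⟨_, rfl⟩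
  have hUσ : U.map σ = U := by rw [hU, E.map_map]
  rw [Polynomial.map_pow, ← hν, ← hU] at hP ⊢
  obtain ⟨W, hW⟩ := hP
  -- `W` is fixed by `σ`
  have hWσ : W.map σ = W := by
    have h1 : (P.map σ * P - U).map σ = P.map σ * P - U := by
      rw [Polynomial.map_sub, Polynomial.map_mul, E.map_sigma_sigma, hUσ, mul_comm]
    rw [hW, Polynomial.map_mul, Polynomial.map_pow, hνσ] at h1
    exact mul_left_cancel₀ (pow_ne_zero e hν0) h1
  -- an inverse of `u` modulo `m`
  obtain ⟨a, b, hab⟩ := hu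
  obtain ⟨A, hA⟩ : ∃ A : K[X], A = a.map (algebraMap F₀ K) := ⟨_, rfl⟩
  have hAσ : A.map σ = A := by rw [hA, E.map_map]
  have hAU : ν ∣ A * U - 1 := by
    refine ⟨-(b.map (algebraMap F₀ K)), ?_⟩
    have := congrArg (Polynomial.map (algebraMap F₀ K)) hab
    rw [Polynomial.map_add, Polynomial.map_mul, Polynomial.map_mul, Polynomial.map_one, ← hA,
      ← hU, ← hν] at this
    linear_combination this
  have hνe : ν ∣ ν ^ e := dvd_pow_self ν (by omega)
  -- `Q = A P` inverts `P^σ` modulo `ν`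
  have hQ1 : ν ∣ A * P * P.map σ - 1 := by
    have h1 : A * P * P.map σ - 1 = A * (P.map σ * P - U) + (A * U - 1) := by ring
    rw [h1]
    exact dvd_add (Dvd.dvd.mul_left (hW ▸ Dvd.dvd.mul_right hνe W) A) hAU
  have hQ2 : ν ∣ A * P.map σ * P - 1 := by
    have h1 : A * P.map σ * P - 1 = A * P * P.map σ - 1 := by ring
    rw [h1]
    exact hQ1
  refine ⟨P + ν ^ e * (-(C θ) * W * (A * P)), ?_⟩
  have hmap : (P + ν ^ e * (-(C θ) * W * (A * P))).map σ =
      P.map σ + ν ^ e * (-(C (σ θ)) * W * (A * P.map σ)) := by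
    rw [Polynomial.map_add, Polynomial.map_mul, Polynomial.map_mul, Polynomial.map_mul,
      Polynomial.map_mul, Polynomial.map_neg, Polynomial.map_pow, Polynomial.map_C, hνσ, hWσ, hAσ]
  rw [hmap]
  have hth : C θ + C (σ θ) = (1 : K[X]) := by rw [← C_add, E.th, C_1]
  have hexp : (P.map σ + ν ^ e * (-(C (σ θ)) * W * (A * P.map σ))) *
      (P + ν ^ e * (-(C θ) * W * (A * P))) - U =
      ν ^ e * (W * (-(C θ) * (A * P * P.map σ - 1) - C (σ θ) * (A * P.map σ * P - 1))) +
      ν ^ (2 * e) * ((-(C (σ θ)) * W * (A * P.map σ)) * (-(C θ) * W * (A * P))) := by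
    have : P.map σ * P - U = ν ^ e * W * (C θ + C (σ θ)) := by rw [hth, mul_one, hW]
    rw [two_mul, pow_add]
    linear_combination this
  rw [hexp]
  apply dvd_add
  · rw [pow_succ]
    apply mul_dvd_mul_left
    apply Dvd.dvd.mul_left
    exact dvd_sub (Dvd.dvd.mul_left hQ1 _) (Dvd.dvd.mul_left hQ2 _)
  · apply Dvd.dvd.mul_right
    exact pow_dvd_pow ν (by omega)

/-- prime powers -/
theorem QuadExt.key_pow [Finite F₀] (π : F₀[X]) (hπ : Irreducible π) (u : F₀[X])
    (hu : IsCoprime u π) (i : ℕ) :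
    ∃ P : K[X], (π ^ i).map (algebraMap F₀ K) ∣ P.map σ * P - u.map (algebraMap F₀ K) := by
  induction i with
  | zero =>
    refine ⟨0, ?_⟩
    rw [pow_zero, Polynomial.map_one]
    exact one_dvd _
  | succ i ih =>
    rcases Nat.eq_zero_or_pos i with h0 | hpos
    · subst h0
      rw [zero_add, pow_one]
      exact E.key_prime π hπ u
    · obtain ⟨P, hP⟩ := ih
      exact E.key_step π hπ.ne_zero u hu i hpos P hP

/-- the Chinese remainder step -/
theorem QuadExt.key_mul (x y : F₀[X]) (hxy : IsCoprime x y) (u : F₀[X])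
    (hx : ∃ P : K[X], x.map (algebraMap F₀ K) ∣ P.map σ * P - u.map (algebraMap F₀ K))
    (hy : ∃ P : K[X], y.map (algebraMap F₀ K) ∣ P.map σ * P - u.map (algebraMap F₀ K)) :
    ∃ P : K[X], (x * y).map (algebraMap F₀ K) ∣ P.map σ * P - u.map (algebraMap F₀ K) := by
  obtain ⟨Px, hPx⟩ := hx
  obtain ⟨Py, hPy⟩ := hy
  obtain ⟨a, b, hab⟩ := hxy
  obtain ⟨A, hA⟩ : ∃ A : K[X], A = a.map (algebraMap F₀ K) := ⟨_, rfl⟩
  obtain ⟨B, hB⟩ : ∃ B : K[X], B = b.map (algebraMap F₀ K) := ⟨_, rfl⟩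
  obtain ⟨Xx, hX⟩ : ∃ Xx : K[X], Xx = x.map (algebraMap F₀ K) := ⟨_, rfl⟩
  obtain ⟨Y, hY⟩ : ∃ Y : K[X], Y = y.map (algebraMap F₀ K) := ⟨_, rfl⟩
  obtain ⟨U, hU⟩ : ∃ U : K[X], U = u.map (algebraMap F₀ K) := ⟨_, rfl⟩
  have hAσ : A.map σ = A := by rw [hA, E.map_map]
  have hBσ : B.map σ = B := by rw [hB, E.map_map]
  have hXσ : Xx.map σ = Xx := by rw [hX, E.map_map]
  have hYσ : Y.map σ = Y := by rw [hY, E.map_map]
  have hbez : A * Xx + B * Y = 1 := by
    have := congrArg (Polynomial.map (algebraMap F₀ K)) hab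
    rw [Polynomial.map_add, Polynomial.map_mul, Polynomial.map_mul, Polynomial.map_one] at this
    rw [hA, hB, hX, hY]
    exact this
  rw [← hX, ← hU] at hPx
  rw [← hY, ← hU] at hPy
  rw [Polynomial.map_mul, ← hX, ← hY, ← hU]
  refine ⟨Px * (B * Y) + Py * (A * Xx), ?_⟩
  have hmap : (Px * (B * Y) + Py * (A * Xx)).map σ =
      Px.map σ * (B * Y) + Py.map σ * (A * Xx) := by
    rw [Polynomial.map_add, Polynomial.map_mul, Polynomial.map_mul, Polynomial.map_mul,
      Polynomial.map_mul, hAσ, hBσ, hXσ, hYσ]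
  rw [hmap]
  have hcop : IsCoprime Xx Y := ⟨A, B, hbez⟩
  apply hcop.mul_dvd
  · obtain ⟨w, hw⟩ := hPx
    refine ⟨w + A * ((Px.map σ * (B * Y) + Py.map σ * (A * Xx)) * (Py - Px) +
      (Py.map σ - Px.map σ) * Px), ?_⟩
    have hBY : B * Y = 1 - A * Xx := by linear_combination hbez
    rw [hBY]
    linear_combination hw
  · obtain ⟨w, hw⟩ := hPy
    refine ⟨w + B * ((Px.map σ * (B * Y) + Py.map σ * (A * Xx)) * (Px - Py) +
      (Px.map σ - Py.map σ) * Py), ?_⟩
    have hAX : A * Xx = 1 - B * Y := by linear_combination hbez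
    rw [hAX]
    linear_combination hw

/-- **The norm equation modulo a polynomial over the fixed field.** -/
theorem QuadExt.key [Finite F₀] (μ : F₀[X]) (hμ : μ ≠ 0) (u : F₀[X]) (hu : IsCoprime u μ) :
    ∃ P : K[X], μ.map (algebraMap F₀ K) ∣ P.map σ * P - u.map (algebraMap F₀ K) := by
  revert hμ hu
  induction μ using UniqueFactorizationMonoid.induction_on_coprime with
  | h0 => intro h; exact absurd rfl h
  | h1 hx =>
    intro _ _
    refine ⟨0, ?_⟩
    exact (hx.map (Polynomial.mapRingHom (algebraMap F₀ K))).dvd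
  | hpr i hp =>
    intro _ hu
    rcases Nat.eq_zero_or_pos i with h0 | hpos
    · subst h0
      refine ⟨0, ?_⟩
      rw [pow_zero, Polynomial.map_one]
      exact one_dvd _
    · exact E.key_pow _ hp.irreducible u ((IsCoprime.pow_right_iff hpos).mp hu) i
  | hcp hxy hx hy =>
    intro hμ hu
    have hx0 := left_ne_zero_of_mul hμ
    have hy0 := right_ne_zero_of_mul hμ
    exact E.key_mul _ _ hxy.isCoprime u (hx hx0 hu.of_mul_right_left) (hy hy0 hu.of_mul_right_right)

end key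

end Cfsg.Agent.Lib.Helper5.UnitConj
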