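import Mathlib
import Cfsg.Agent.Lib.Helper5.UnitConj.KeyLemma
import Cfsg.Agent.Lib.Helper5.HermBridge

set_option autoImplicit false

/-!
# The fixed field of `x ↦ x ^ q` and the norm equation for fixed polynomials
-/

namespace Cfsg.Agent.Lib.Helper5.UnitConj

open Polynomial Cfsg.Agent.Lib.Helper5.HermBridge

universe u

section fixed
variable {K : Type u} [Field K] [Fintype K] {q : ℕ} (hK : Fintype.card K = q ^ 2)

/-- the fixed field of `x ↦ x ^ q` -/
def fixedField : Subfield K := RingHom.eqLocusField (sigma hK) (RingHom.id K)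

theorem mem_fixedField (x : K) : x ∈ fixedField hK ↔ sigma hK x = x := Iff.rfl

theorem fixedField_fix (x : fixedField hK) : sigma hK (x : K) = x := x.2

theorem exists_moved : ∃ ω : K, sigma hK ω ≠ ω := by
  by_contra h
  push Not at h
  exact sigma_ne_id hK (RingHom.ext h)

theorem exists_quadExt : ∃ (ω θ : K) (T N : fixedField hK), QuadExt (sigma hK) ω θ T N := by
  obtain ⟨ω, hω⟩ := exists_moved hK
  have hT : ω + sigma hK ω ∈ fixedField hK := by
    rw [mem_fixedField, map_add, sigma_sigma]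
    ring
  have hN : ω * sigma hK ω ∈ fixedField hK := by
    rw [mem_fixedField, map_mul, sigma_sigma]
    ring
  have hθ : ∃ θ : K, θ + sigma hK θ = 1 := by
    by_cases h0 : ω + sigma hK ω = 0
    · have h2 : (2 : K) ≠ 0 := by
        intro h2
        apply hω
        have : sigma hK ω = -ω := by linear_combination h0
        rw [this]
        have : ω + ω = 0 := by rw [← two_mul, h2, zero_mul]
        linear_combination (-1 : K) * this
      refine ⟨1 / 2, ?_⟩
      rw [map_div₀, map_one, map_ofNat]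
      field_simp
      norm_num
    · refine ⟨ω / (ω + sigma hK ω), ?_⟩
      rw [map_div₀, map_add, sigma_sigma, add_comm (sigma hK ω) ω, ← add_div, div_self h0]
  obtain ⟨θ, hθ⟩ := hθ
  refine ⟨ω, θ, ⟨_, hT⟩, ⟨_, hN⟩, ?_⟩
  refine ⟨fun x => fixedField_fix hK x, sigma_sigma hK, rfl, rfl, hθ, ?_⟩
  intro h
  have h1 := congrArg (algebraMap (fixedField hK) K) h
  rw [map_sub, map_pow, map_mul, map_ofNat, map_zero] at h1
  change (ω + sigma hK ω) ^ 2 - 4 * (ω * sigma hK ω) = 0 at h1
  have h2 : (ω - sigma hK ω) ^ 2 = 0 := by linear_combination h1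
  exact hω (sub_eq_zero.1 ((pow_eq_zero_iff (two_ne_zero)).1 h2)).symm

/-- **The norm equation** `P^σ P ≡ X` modulo a `σ`-fixed polynomial with nonzero constant term. -/
theorem exists_norm_poly (χ : K[X]) (hχσ : χ.map (sigma hK) = χ) (hχ0 : χ.coeff 0 ≠ 0) :
    ∃ P : K[X], χ ∣ P.map (sigma hK) * P - X := by
  obtain ⟨ω, θ, T, N, E⟩ := exists_quadExt hK
  have hlift : χ ∈ Polynomial.lifts (algebraMap (fixedField hK) K) := by
    rw [Polynomial.lifts_iff_coeff_lifts]
    intro n
    have h1 : sigma hK (χ.coeff n) = χ.coeff n := by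
      conv_rhs => rw [← hχσ]
      rw [Polynomial.coeff_map]
    exact ⟨⟨χ.coeff n, h1⟩, rfl⟩
  obtain ⟨μ, hμ⟩ := hlift
  have hμ' : μ.map (algebraMap (fixedField hK) K) = χ := hμ
  have hμ0 : μ ≠ 0 := by
    rintro rfl
    rw [Polynomial.map_zero] at hμ'
    rw [← hμ'] at hχ0
    exact hχ0 (coeff_zero 0)
  have hc0 : μ.coeff 0 ≠ 0 := by
    intro h
    apply hχ0
    rw [← hμ', Polynomial.coeff_map, h, map_zero]
  have hcop : IsCoprime (X : (fixedField hK)[X]) μ := by
    rw [(Polynomial.irreducible_X).coprime_iff_not_dvd, Polynomial.X_dvd_iff]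
    exact hc0
  obtain ⟨P, hP⟩ := E.key μ hμ0 X hcop
  rw [hμ', Polynomial.map_X] at hP
  exact ⟨P, hP⟩

end fixed

end Cfsg.Agent.Lib.Helper5.UnitConj
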