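import Mathlib
import Cfsg.Agent.Lib.Helper5.UnitConj.Fixed
import Cfsg.Agent.Lib.Helper5.HermBlock

set_option autoImplicit false

/-!
# The conjugate transpose, and conjugacy in the unitary group
-/

namespace Cfsg.Agent.Lib.Helper5.UnitConj

open Polynomial Matrix Cfsg Cfsg.Agent.Lib.Helper5.HermBridge Cfsg.Agent.Lib.Helper5.HermBlock

universe u

section ct
variable {K : Type u} [Field K] [Fintype K] {q : ℕ} (hK : Fintype.card K = q ^ 2) {n : ℕ}

/-- the conjugate transpose -/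
def cT (M : Matrix (Fin n) (Fin n) K) : Matrix (Fin n) (Fin n) K := (M.map (sigma hK))ᵀ

theorem cT_apply (M : Matrix (Fin n) (Fin n) K) (i j : Fin n) : cT hK M i j = sigma hK (M j i) :=
  rfl

theorem cT_mul (M N : Matrix (Fin n) (Fin n) K) : cT hK (M * N) = cT hK N * cT hK M := by
  unfold cT
  rw [Matrix.map_mul, Matrix.transpose_mul]

theorem cT_one : cT hK (1 : Matrix (Fin n) (Fin n) K) = 1 := by
  unfold cT
  rw [Matrix.map_one _ (map_zero _) (map_one _), Matrix.transpose_one]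

theorem cT_cT (M : Matrix (Fin n) (Fin n) K) : cT hK (cT hK M) = M := by
  ext i j
  rw [cT_apply, cT_apply, sigma_sigma]

theorem cT_add (M N : Matrix (Fin n) (Fin n) K) : cT hK (M + N) = cT hK M + cT hK N := by
  ext i j
  rw [Matrix.add_apply, cT_apply, cT_apply, cT_apply, Matrix.add_apply, map_add]

theorem cT_smul (c : K) (M : Matrix (Fin n) (Fin n) K) : cT hK (c • M) = sigma hK c • cT hK M := by
  ext i j
  rw [Matrix.smul_apply, cT_apply, cT_apply, Matrix.smul_apply, smul_eq_mul, smul_eq_mul, map_mul]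

theorem cT_pow (M : Matrix (Fin n) (Fin n) K) (k : ℕ) : cT hK (M ^ k) = cT hK M ^ k := by
  induction k with
  | zero => rw [pow_zero, pow_zero, cT_one]
  | succ k ih => rw [pow_succ, cT_mul, ih, pow_succ']

theorem cT_aeval (M : Matrix (Fin n) (Fin n) K) (P : K[X]) :
    cT hK (aeval M P) = aeval (cT hK M) (P.map (sigma hK)) := by
  induction P using Polynomial.induction_on with
  | C a =>
    rw [Polynomial.map_C, aeval_C, aeval_C, Algebra.algebraMap_eq_smul_one,
      Algebra.algebraMap_eq_smul_one, cT_smul, cT_one]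
  | add p q hp hq => rw [map_add, cT_add, hp, hq, Polynomial.map_add, map_add]
  | monomial k a _ =>
    rw [Polynomial.map_mul, Polynomial.map_C, Polynomial.map_pow, Polynomial.map_X, map_mul,
      map_mul, aeval_C, aeval_C, map_pow, map_pow, aeval_X, aeval_X,
      Algebra.algebraMap_eq_smul_one, Algebra.algebraMap_eq_smul_one, smul_mul_assoc, one_mul,
      smul_mul_assoc, one_mul, cT_smul, cT_pow]

theorem charpoly_cT (M : Matrix (Fin n) (Fin n) K) :
    (cT hK M).charpoly = M.charpoly.map (sigma hK) := by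
  unfold cT
  rw [Matrix.charpoly_transpose, Matrix.charpoly_map]

theorem det_cT (M : Matrix (Fin n) (Fin n) K) : (cT hK M).det = sigma hK M.det := by
  unfold cT
  rw [Matrix.det_transpose]
  exact ((sigma hK).map_det M).symm

theorem mem_GU_iff_cT (g : GL (Fin n) K) :
    g ∈ Cfsg.GU n K q ↔ cT hK (g : Matrix (Fin n) (Fin n) K) * (g : Matrix (Fin n) (Fin n) K) = 1 := by
  rw [mem_GU_iff hK]
  have h1 : cT hK (g : Matrix (Fin n) (Fin n) K) * (g : Matrix (Fin n) (Fin n) K) =
      ((g : Matrix (Fin n) (Fin n) K)ᵀ * (g : Matrix (Fin n) (Fin n) K).map (· ^ q))ᵀ := by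
    rw [Matrix.transpose_mul, Matrix.transpose_transpose]
    rfl
  rw [h1]
  constructor
  · intro h
    rw [h, Matrix.transpose_one]
  · intro h
    have := congrArg Matrix.transpose h
    rwa [Matrix.transpose_transpose, Matrix.transpose_one] at this

omit [Fintype K] in
theorem commute_aeval {A a : Matrix (Fin n) (Fin n) K} (h : Commute A a) (P : K[X]) :
    Commute A (aeval a P) := by
  induction P using Polynomial.induction_on with
  | C c =>
    rw [aeval_C]
    exact Algebra.commute_algebraMap_right c A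
  | add p q hp hq =>
    rw [map_add]
    exact hp.add_right hq
  | monomial k c _ =>
    rw [map_mul, aeval_C, map_pow, aeval_X]
    exact (Algebra.commute_algebraMap_right c A).mul_right (h.pow_right _)

/-- **A hermitian invertible matrix is `b* b` for a polynomial `b` in it.** -/
theorem exists_cT_mul_self (a : Matrix (Fin n) (Fin n) K) (ha : cT hK a = a) (hdet : a.det ≠ 0) :
    ∃ P : K[X], cT hK (aeval a P) * aeval a P = a := by
  have hχσ : a.charpoly.map (sigma hK) = a.charpoly := by rw [← charpoly_cT, ha]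
  have hχ0 : a.charpoly.coeff 0 ≠ 0 := by
    intro h
    apply hdet
    rw [Matrix.det_eq_sign_charpoly_coeff, h, mul_zero]
  obtain ⟨P, χ', hP⟩ := exists_norm_poly hK a.charpoly hχσ hχ0
  refine ⟨P, ?_⟩
  have h1 := congrArg (aeval a) hP
  rw [map_sub, map_mul, map_mul, Matrix.aeval_self_charpoly, zero_mul, aeval_X, sub_eq_zero] at h1
  rw [cT_aeval, ha]
  exact h1

include hK in
/-- **Conjugacy in `GU_n(q)` is conjugacy in `GL_n(q²)`.** -/
theorem gu_isConj_of_gl_isConj (A B : ↥(Cfsg.GU n K q))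
    (h : IsConj (A : GL (Fin n) K) (B : GL (Fin n) K)) : IsConj A B := by
  obtain ⟨c, hc⟩ := isConj_iff.1 h
  obtain ⟨x, hx⟩ : ∃ x : Matrix (Fin n) (Fin n) K, x = (c : Matrix (Fin n) (Fin n) K) := ⟨_, rfl⟩
  obtain ⟨MA, hMA⟩ : ∃ M : Matrix (Fin n) (Fin n) K, M = ((A : GL (Fin n) K) : Matrix _ _ K) :=
    ⟨_, rfl⟩
  obtain ⟨MB, hMB⟩ : ∃ M : Matrix (Fin n) (Fin n) K, M = ((B : GL (Fin n) K) : Matrix _ _ K) :=
    ⟨_, rfl⟩
  have hA : cT hK MA * MA = 1 := by rw [hMA]; exact (mem_GU_iff_cT hK _).1 A.2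
  have hB : cT hK MB * MB = 1 := by rw [hMB]; exact (mem_GU_iff_cT hK _).1 B.2
  have hA' : MA * cT hK MA = 1 := mul_eq_one_comm.1 hA
  have hxAB : x * MA = MB * x := by
    have h1 : c * (A : GL (Fin n) K) = (B : GL (Fin n) K) * c := by
      rw [← hc, inv_mul_cancel_right]
    have := congrArg (fun g : GL (Fin n) K => (g : Matrix (Fin n) (Fin n) K)) h1
    simp only [Units.val_mul] at this
    rw [hx, hMA, hMB]
    exact this
  have hxdet : x.det ≠ 0 := by
    rw [hx]
    exact (Matrix.isUnits_det_units c).ne_zero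
  -- the hermitian matrix `a = x* x`
  obtain ⟨a, ha⟩ : ∃ a : Matrix (Fin n) (Fin n) K, a = cT hK x * x := ⟨_, rfl⟩
  have haH : cT hK a = a := by rw [ha, cT_mul, cT_cT]
  have hadet : a.det ≠ 0 := by
    rw [ha, Matrix.det_mul, det_cT]
    exact mul_ne_zero ((_root_.map_ne_zero _).2 hxdet) hxdet
  have hxB : cT hK x * MB = MA * cT hK x := by
    have h1 : cT hK MA * cT hK x = cT hK x * cT hK MB := by rw [← cT_mul, ← cT_mul, hxAB]
    calc cT hK x * MB = (MA * cT hK MA) * (cT hK x * MB) := by rw [hA', one_mul]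
      _ = MA * (cT hK MA * cT hK x) * MB := by simp only [Matrix.mul_assoc]
      _ = MA * (cT hK x * cT hK MB) * MB := by rw [h1]
      _ = MA * cT hK x * (cT hK MB * MB) := by simp only [Matrix.mul_assoc]
      _ = MA * cT hK x := by rw [hB, Matrix.mul_one]
  have hcomm : Commute MA a := by
    show MA * a = a * MA
    rw [ha]
    calc MA * (cT hK x * x) = (MA * cT hK x) * x := by rw [Matrix.mul_assoc]
      _ = (cT hK x * MB) * x := by rw [hxB]
      _ = cT hK x * (MB * x) := by rw [Matrix.mul_assoc]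
      _ = cT hK x * (x * MA) := by rw [hxAB]
      _ = cT hK x * x * MA := by rw [Matrix.mul_assoc]
  obtain ⟨P, hP⟩ := exists_cT_mul_self hK a haH hadet
  obtain ⟨b, hb⟩ : ∃ b : Matrix (Fin n) (Fin n) K, b = aeval a P := ⟨_, rfl⟩
  rw [← hb] at hP
  have hbA : MA * b = b * MA := by rw [hb]; exact commute_aeval hcomm P
  have hbdet : b.det ≠ 0 := by
    intro h0
    apply hadet
    rw [← hP, Matrix.det_mul, h0, mul_zero]
  have hbu : IsUnit b.det := isUnit_iff_ne_zero.2 hbdet
  -- `y = x b⁻¹`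
  obtain ⟨y, hy⟩ : ∃ y : Matrix (Fin n) (Fin n) K, y = x * b⁻¹ := ⟨_, rfl⟩
  have hyb : y * b = x := by rw [hy, Matrix.mul_assoc, Matrix.nonsing_inv_mul _ hbu, Matrix.mul_one]
  have hyU : cT hK y * y = 1 := by
    have h1 : cT hK b * (cT hK y * y) * b = cT hK b * 1 * b := by
      rw [Matrix.mul_one, hP]
      calc cT hK b * (cT hK y * y) * b = cT hK (y * b) * (y * b) := by
            rw [cT_mul]; simp only [Matrix.mul_assoc]
        _ = a := by rw [hyb, ha]
    have hcbu : IsUnit (cT hK b).det := by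
      rw [det_cT]
      exact isUnit_iff_ne_zero.2 ((_root_.map_ne_zero _).2 hbdet)
    have h2 : (cT hK b)⁻¹ * (cT hK b * (cT hK y * y) * b) * b⁻¹ =
        (cT hK b)⁻¹ * (cT hK b * 1 * b) * b⁻¹ := by rw [h1]
    rw [Matrix.mul_assoc (cT hK b) _ b, ← Matrix.mul_assoc (cT hK b)⁻¹, Matrix.nonsing_inv_mul _ hcbu,
      Matrix.one_mul, Matrix.mul_assoc, Matrix.mul_nonsing_inv _ hbu, Matrix.mul_one,
      Matrix.mul_assoc (cT hK b) 1 b, ← Matrix.mul_assoc (cT hK b)⁻¹, Matrix.nonsing_inv_mul _ hcbu,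
      Matrix.one_mul, Matrix.one_mul, Matrix.mul_nonsing_inv _ hbu] at h2
    exact h2
  have hyU' : y * cT hK y = 1 := mul_eq_one_comm.1 hyU
  have hyAB : y * MA = MB * y := by
    have h1 : y * MA * b = MB * y * b := by
      rw [Matrix.mul_assoc, hbA, ← Matrix.mul_assoc, hyb, hxAB, Matrix.mul_assoc, hyb]
    have h2 : y * MA * b * b⁻¹ = MB * y * b * b⁻¹ := by rw [h1]
    rwa [Matrix.mul_assoc _ b, Matrix.mul_nonsing_inv _ hbu, Matrix.mul_one,
      Matrix.mul_assoc _ b, Matrix.mul_nonsing_inv _ hbu, Matrix.mul_one] at h2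
  -- `y` as an element of `GU`
  obtain ⟨Y, hY⟩ : ∃ Y : GL (Fin n) K, (Y : Matrix (Fin n) (Fin n) K) = y :=
    ⟨⟨y, cT hK y, hyU', hyU⟩, rfl⟩
  have hYU : Y ∈ Cfsg.GU n K q := by
    rw [mem_GU_iff_cT hK, hY]
    exact hyU
  refine ⟨⟨⟨Y, hYU⟩, ⟨Y, hYU⟩⁻¹, mul_inv_cancel _, inv_mul_cancel _⟩, ?_⟩
  show (⟨Y, hYU⟩ : ↥(Cfsg.GU n K q)) * A = B * ⟨Y, hYU⟩
  apply Subtype.ext
  apply Units.ext
  show (Y : Matrix (Fin n) (Fin n) K) * ((A : GL (Fin n) K) : Matrix _ _ K) =
    ((B : GL (Fin n) K) : Matrix _ _ K) * (Y : Matrix (Fin n) (Fin n) K)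
  rw [hY, ← hMA, ← hMB]
  exact hyAB

end ct

end Cfsg.Agent.Lib.Helper5.UnitConj
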