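import Mathlib
import Cfsg.Agent.Lib.Helper5.UnitConj.CT

set_option autoImplicit false

/-!
# A hermitian form preserved by a matrix similar to its inverse conjugate transpose
-/

namespace Cfsg.Agent.Lib.Helper5.UnitConj

open Polynomial Matrix Cfsg Cfsg.Agent.Lib.Helper5.HermBridge

universe u

section abstract

/-- the unit criterion behind the pencil argument -/
theorem isUnit_pencil {R : Type*} [CommRing R] (y yi e₀ e₁ G s d t : R) (k : ℕ)
    (hy : y * yi = 1) (hs : s = (1 + y) * (1 + yi)) (he : e₁ + e₀ = 1) (he0 : e₁ * e₀ = 0)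
    (hk : s ^ k * e₀ = 0) (hG : G * s * e₁ = e₁) (hd : IsUnit d) :
    IsUnit (e₁ * (1 + y) + e₀ * (d + t * (1 + y))) := by
  have he1 : e₁ * e₁ = e₁ := by
    have : e₁ * (e₁ + e₀) = e₁ := by rw [he, mul_one]
    rw [mul_add, he0, add_zero] at this
    exact this
  have he2 : e₀ * e₀ = e₀ := by
    have : (e₁ + e₀) * e₀ = e₀ := by rw [he, one_mul]
    rw [add_mul, he0, zero_add] at this
    exact this
  have hys : (1 + y) ^ 2 = y * s := by
    rw [hs]
    linear_combination (-(1 + y)) * hy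
  have hpow : (1 + y) ^ (2 * k) * e₀ = 0 := by
    rw [pow_mul, hys, mul_pow, mul_assoc, hk, mul_zero]
  have hnil : IsNilpotent (t * ((1 + y) * e₀)) := by
    refine ⟨2 * k + 1, ?_⟩
    rw [mul_pow, mul_pow, pow_succ (1 + y), pow_succ' e₀]
    have : (1 + y) ^ (2 * k) * (1 + y) * (e₀ * e₀ ^ (2 * k)) =
        ((1 + y) ^ (2 * k) * e₀) * ((1 + y) * e₀ ^ (2 * k)) := by ring
    rw [this, hpow, zero_mul, mul_zero]
  obtain ⟨du, hdu⟩ := hd
  have hu1 : IsUnit (e₁ + d * e₀) := by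
    refine isUnit_iff_exists_inv.2 ⟨e₁ + (↑du⁻¹ : R) * e₀, ?_⟩
    have hdd : d * (↑du⁻¹ : R) = 1 := by rw [← hdu]; exact du.mul_inv
    calc (e₁ + d * e₀) * (e₁ + ↑du⁻¹ * e₀)
        = e₁ * e₁ + (d + ↑du⁻¹) * (e₁ * e₀) + (d * ↑du⁻¹) * (e₀ * e₀) := by ring
      _ = 1 := by rw [he1, he0, he2, hdd, mul_zero, add_zero, one_mul, he]
  have hc2 : IsUnit (e₁ + d * e₀ + t * ((1 + y) * e₀)) :=
    hnil.isUnit_add_left_of_commute hu1 (Commute.all _ _)
  have hprod : (e₁ * (1 + y) + e₀ * (d + t * (1 + y))) * (e₁ * (G * yi * (1 + y)) + e₀) =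
      e₁ + d * e₀ + t * ((1 + y) * e₀) := by
    have h1 : yi * (1 + y) ^ 2 = s := by
      rw [hys, ← mul_assoc, mul_comm yi y, hy, one_mul]
    calc (e₁ * (1 + y) + e₀ * (d + t * (1 + y))) * (e₁ * (G * yi * (1 + y)) + e₀)
        = (e₁ * e₁) * (G * (yi * (1 + y) ^ 2)) + (e₁ * e₀) * ((1 + y) +
            (d + t * (1 + y)) * (G * yi * (1 + y))) + (e₀ * e₀) * (d + t * (1 + y)) := by ring
      _ = G * s * e₁ + e₀ * (d + t * (1 + y)) := by
          rw [he1, he0, he2, h1, zero_mul, add_zero]; ring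
      _ = e₁ + d * e₀ + t * ((1 + y) * e₀) := by rw [hG]; ring
  rw [← hprod] at hc2
  exact isUnit_of_mul_isUnit_left hc2

end abstract

section helpers
variable {K : Type u} [Field K] {n : ℕ}

theorem semiconj_aeval {M N x : Matrix (Fin n) (Fin n) K} (h : M * x = x * N) (f : K[X]) :
    aeval M f * x = x * aeval N f := by
  induction f using Polynomial.induction_on with
  | C c =>
    rw [aeval_C, aeval_C]
    exact (Algebra.commutes c x)
  | add p q hp hq => rw [map_add, map_add, add_mul, mul_add, hp, hq]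
  | monomial k c _ =>
    have hpow : ∀ j : ℕ, M ^ j * x = x * N ^ j := by
      intro j
      induction j with
      | zero => rw [pow_zero, pow_zero, one_mul, mul_one]
      | succ j ih => rw [pow_succ, Matrix.mul_assoc, h, ← Matrix.mul_assoc, ih, Matrix.mul_assoc,
          ← pow_succ]
    rw [map_mul, map_mul, aeval_C, aeval_C, map_pow, map_pow, aeval_X, aeval_X, Matrix.mul_assoc,
      hpow, ← Matrix.mul_assoc, Algebra.commutes c x, Matrix.mul_assoc]

end helpers

section main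
variable {K : Type u} [Field K] [Fintype K] {q : ℕ} (hK : Fintype.card K = q ^ 2) {n : ℕ}

theorem exists_fixed_lift (χ : K[X]) (hχσ : χ.map (sigma hK) = χ) :
    ∃ μ : (fixedField hK)[X], μ.map (algebraMap (fixedField hK) K) = χ := by
  have hlift : χ ∈ Polynomial.lifts (algebraMap (fixedField hK) K) := by
    rw [Polynomial.lifts_iff_coeff_lifts]
    intro n
    have h1 : sigma hK (χ.coeff n) = χ.coeff n := by
      conv_rhs => rw [← hχσ]
      rw [Polynomial.coeff_map]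
    exact ⟨⟨χ.coeff n, h1⟩, rfl⟩
  obtain ⟨μ, hμ⟩ := hlift
  exact ⟨μ, hμ⟩

theorem fixed_map_sigma (f : (fixedField hK)[X]) :
    (f.map (algebraMap (fixedField hK) K)).map (sigma hK) =
      f.map (algebraMap (fixedField hK) K) := by
  rw [Polynomial.map_map]
  congr 1
  exact RingHom.ext (fun x => fixedField_fix hK x)

/-- the relations satisfied by `y = x⁻¹ x*` -/
theorem pencil_relations (A Ai x xi : Matrix (Fin n) (Fin n) K)
    (hA1 : A * Ai = 1) (hx1 : x * xi = 1) (hA : cT hK A * x * A = x) :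
    ∃ y yi : Matrix (Fin n) (Fin n) K, y * yi = 1 ∧ yi * y = 1 ∧ y * A = A * y ∧
      yi * A = A * yi ∧ cT hK y * x = x * yi ∧ cT hK yi * x = x * y ∧ cT hK x = x * y := by
  have hA2 : Ai * A = 1 := mul_eq_one_comm.1 hA1
  have hx2 : xi * x = 1 := mul_eq_one_comm.1 hx1
  obtain ⟨xs, hxs⟩ : ∃ xs, xs = cT hK x := ⟨_, rfl⟩
  obtain ⟨xsi, hxsi⟩ : ∃ xsi, xsi = cT hK xi := ⟨_, rfl⟩
  have hxs1 : xs * xsi = 1 := by rw [hxs, hxsi, ← cT_mul, hx2, cT_one]
  have hAs2 : cT hK Ai * cT hK A = 1 := by rw [← cT_mul, hA1, cT_one]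
  have hA' : cT hK A * xs * A = xs := by
    have := congrArg (cT hK) hA
    rw [cT_mul, cT_mul, cT_cT, ← hxs, ← Matrix.mul_assoc] at this
    exact this
  have hxA : x * A = cT hK Ai * x := by
    calc x * A = (cT hK Ai * cT hK A) * (x * A) := by rw [hAs2, Matrix.one_mul]
      _ = cT hK Ai * (cT hK A * x * A) := by simp only [Matrix.mul_assoc]
      _ = cT hK Ai * x := by rw [hA]
  have hxsA : xs * A = cT hK Ai * xs := by
    calc xs * A = (cT hK Ai * cT hK A) * (xs * A) := by rw [hAs2, Matrix.one_mul]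
      _ = cT hK Ai * (cT hK A * xs * A) := by simp only [Matrix.mul_assoc]
      _ = cT hK Ai * xs := by rw [hA']
  have hAxi : A * xi = xi * cT hK Ai := by
    calc A * xi = (xi * x) * (A * xi) := by rw [hx2, Matrix.one_mul]
      _ = xi * (x * A) * xi := by simp only [Matrix.mul_assoc]
      _ = xi * (cT hK Ai * x) * xi := by rw [hxA]
      _ = xi * cT hK Ai * (x * xi) := by simp only [Matrix.mul_assoc]
      _ = xi * cT hK Ai := by rw [hx1, Matrix.mul_one]
  have hyyi : xi * xs * (xsi * x) = 1 := by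
    calc xi * xs * (xsi * x) = xi * (xs * xsi) * x := by simp only [Matrix.mul_assoc]
      _ = 1 := by rw [hxs1, Matrix.mul_one, hx2]
  have hyiy : xsi * x * (xi * xs) = 1 := mul_eq_one_comm.1 hyyi
  have hyA : xi * xs * A = A * (xi * xs) := by
    calc xi * xs * A = xi * (xs * A) := by rw [Matrix.mul_assoc]
      _ = xi * (cT hK Ai * xs) := by rw [hxsA]
      _ = (xi * cT hK Ai) * xs := by rw [Matrix.mul_assoc]
      _ = (A * xi) * xs := by rw [hAxi]
      _ = A * (xi * xs) := by rw [Matrix.mul_assoc]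
  refine ⟨xi * xs, xsi * x, hyyi, hyiy, hyA, ?_, ?_, ?_, ?_⟩
  · calc xsi * x * A = xsi * x * A * (xi * xs * (xsi * x)) := by rw [hyyi, Matrix.mul_one]
      _ = xsi * x * (A * (xi * xs)) * (xsi * x) := by simp only [Matrix.mul_assoc]
      _ = xsi * x * (xi * xs * A) * (xsi * x) := by rw [hyA]
      _ = (xsi * x * (xi * xs)) * A * (xsi * x) := by simp only [Matrix.mul_assoc]
      _ = A * (xsi * x) := by rw [hyiy, Matrix.one_mul]
  · rw [cT_mul, hxs, cT_cT, ← hxsi, Matrix.mul_assoc]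
  · rw [cT_mul, hxsi, cT_cT, ← hxs, Matrix.mul_assoc, hx2, Matrix.mul_one, ← Matrix.mul_assoc, hx1,
      Matrix.one_mul]
  · rw [← hxs, ← Matrix.mul_assoc, hx1, Matrix.one_mul]

/-- **A hermitian invertible matrix in the pencil.** -/
theorem exists_hermitian_invariant (A Ai x xi : Matrix (Fin n) (Fin n) K)
    (hA1 : A * Ai = 1) (hx1 : x * xi = 1) (hA : cT hK A * x * A = x) :
    ∃ h : Matrix (Fin n) (Fin n) K, cT hK h = h ∧ h.det ≠ 0 ∧ cT hK A * h * A = h := by
  classical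
  have hx2 : xi * x = 1 := mul_eq_one_comm.1 hx1
  obtain ⟨y, yi, hyyi, hyiy, hyA, hyiA, hcy, hcyi, hxs⟩ := pencil_relations hK A Ai x xi hA1 hx1 hA
  -- the commutative algebra generated by `y` and its inverse
  have hcomm : ∀ a ∈ ({y, yi} : Set (Matrix (Fin n) (Fin n) K)),
      ∀ b ∈ ({y, yi} : Set (Matrix (Fin n) (Fin n) K)), a * b = b * a := by
    intro a ha b hb
    rcases ha with rfl | rfl <;> rcases hb with rfl | rfl
    · rfl
    · rw [hyyi, hyiy]
    · rw [hyyi, hyiy]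
    · rfl
  let _ : CommRing (Algebra.adjoin K ({y, yi} : Set (Matrix (Fin n) (Fin n) K))) :=
    Algebra.adjoinCommRingOfComm K hcomm
  obtain ⟨y', hy'⟩ : ∃ y' : Algebra.adjoin K ({y, yi} : Set (Matrix (Fin n) (Fin n) K)),
      (y' : Matrix (Fin n) (Fin n) K) = y := ⟨⟨y, Algebra.subset_adjoin (by simp)⟩, rfl⟩
  obtain ⟨yi', hyi'⟩ : ∃ yi' : Algebra.adjoin K ({y, yi} : Set (Matrix (Fin n) (Fin n) K)),
      (yi' : Matrix (Fin n) (Fin n) K) = yi := ⟨⟨yi, Algebra.subset_adjoin (by simp)⟩, rfl⟩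
  have hyy' : y' * yi' = 1 := by
    apply Subtype.ext
    rw [Subalgebra.coe_mul, hy', hyi', hyyi, Subalgebra.coe_one]
  obtain ⟨s', hs'⟩ : ∃ s' : Algebra.adjoin K ({y, yi} : Set (Matrix (Fin n) (Fin n) K)),
      s' = (1 + y') * (1 + yi') := ⟨_, rfl⟩
  obtain ⟨s, hs⟩ : ∃ s : Matrix (Fin n) (Fin n) K, s = (1 + y) * (1 + yi) := ⟨_, rfl⟩
  have hss' : (s' : Matrix (Fin n) (Fin n) K) = s := by
    rw [hs', hs, Subalgebra.coe_mul, Subalgebra.coe_add, Subalgebra.coe_add, Subalgebra.coe_one,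
      hy', hyi']
  -- `s* x = x s`
  have hcs : cT hK s * x = x * s := by
    have h1 : (1 + cT hK y) * x = x * (1 + yi) := by
      rw [Matrix.add_mul, Matrix.one_mul, hcy, Matrix.mul_add, Matrix.mul_one]
    have h2 : (1 + cT hK yi) * x = x * (1 + y) := by
      rw [Matrix.add_mul, Matrix.one_mul, hcyi, Matrix.mul_add, Matrix.mul_one]
    rw [hs, cT_mul, cT_add, cT_add, cT_one, Matrix.mul_assoc, h1, ← Matrix.mul_assoc, h2,
      Matrix.mul_assoc]
  -- the characteristic polynomial of `s` is fixed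
  have hχσ : s.charpoly.map (sigma hK) = s.charpoly := by
    rw [← charpoly_cT]
    have h1 : cT hK s = x * (s * xi) := by
      rw [← Matrix.mul_assoc, ← hcs, Matrix.mul_assoc, hx1, Matrix.mul_one]
    rw [h1, Matrix.charpoly_mul_comm, Matrix.mul_assoc, hx2, Matrix.mul_one]
  obtain ⟨μ, hμ⟩ := exists_fixed_lift hK s.charpoly hχσ
  have hμ0 : μ ≠ 0 := by
    rintro rfl
    rw [Polynomial.map_zero] at hμ
    exact (Matrix.charpoly_monic s).ne_zero hμ.symm
  obtain ⟨μ₁, hμ₁, hnd⟩ := Polynomial.exists_eq_pow_rootMultiplicity_mul_and_not_dvd μ hμ0 0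
  obtain ⟨k, hk⟩ : ∃ k, k = μ.rootMultiplicity 0 := ⟨_, rfl⟩
  rw [C_0, sub_zero, ← hk] at hμ₁
  rw [C_0, sub_zero] at hnd
  have hcopX : IsCoprime (X : (fixedField hK)[X]) μ₁ :=
    (Polynomial.irreducible_X).coprime_iff_not_dvd.2 hnd
  obtain ⟨α, β, hαβ⟩ := (IsCoprime.pow_left (m := k) hcopX)
  obtain ⟨γ, δ, hγδ⟩ := hcopX
  -- evaluation at `s'`
  obtain ⟨ev, hev⟩ : ∃ ev : (fixedField hK)[X] →+*
      Algebra.adjoin K ({y, yi} : Set (Matrix (Fin n) (Fin n) K)),
      ∀ f, ev f = aeval s' (f.map (algebraMap (fixedField hK) K)) :=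
    ⟨(aeval s').toRingHom.comp (Polynomial.mapRingHom (algebraMap (fixedField hK) K)),
      fun f => rfl⟩
  have hevc : ∀ f, ((ev f : Algebra.adjoin K ({y, yi} : Set (Matrix (Fin n) (Fin n) K))) :
      Matrix (Fin n) (Fin n) K) = aeval s (f.map (algebraMap (fixedField hK) K)) := by
    intro f
    rw [hev, Polynomial.aeval_subalgebra_coe, hss']
  have hevX : ev X = s' := by rw [hev, Polynomial.map_X, aeval_X]
  have hevμ : ev μ = 0 := by
    apply Subtype.ext
    rw [hevc, hμ, Matrix.aeval_self_charpoly]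
    rfl
  obtain ⟨e₁, he₁⟩ : ∃ e₁, e₁ = ev (α * X ^ k) := ⟨_, rfl⟩
  obtain ⟨e₀, he₀⟩ : ∃ e₀, e₀ = ev (β * μ₁) := ⟨_, rfl⟩
  have he : e₁ + e₀ = 1 := by rw [he₁, he₀, ← map_add, hαβ, map_one]
  have he0 : e₁ * e₀ = 0 := by
    rw [he₁, he₀, ← map_mul, show α * X ^ k * (β * μ₁) = α * β * μ by rw [hμ₁]; ring, map_mul,
      hevμ, mul_zero]
  have hks : s' ^ k * e₀ = 0 := by
    rw [he₀, ← hevX, ← map_pow, ← map_mul, show X ^ k * (β * μ₁) = β * μ by rw [hμ₁]; ring, map_mul,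
      hevμ, mul_zero]
  have hG : ev γ * s' * e₁ = e₁ := by
    have h1 : γ * X * (α * X ^ k) = α * X ^ k - α * δ * μ := by
      rw [hμ₁]
      linear_combination (α * X ^ k) * hγδ
    rw [he₁, ← hevX, ← map_mul, ← map_mul, h1, map_sub, map_mul (f := ev) (α * δ) μ, hevμ, mul_zero,
      sub_zero]
  obtain ⟨ω, hω⟩ := exists_moved hK
  have hd : IsUnit (algebraMap K (Algebra.adjoin K ({y, yi} : Set (Matrix (Fin n) (Fin n) K)))
      (ω - sigma hK ω)) :=
    (isUnit_iff_ne_zero.2 (sub_ne_zero.2 (Ne.symm hω))).map _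
  have hunit := isUnit_pencil y' yi' e₀ e₁ (ev γ) s'
    (algebraMap K _ (ω - sigma hK ω)) (algebraMap K _ (sigma hK ω)) k hyy' hs' he he0 hks hG hd
  have hyiy' : yi' * y' = 1 := by rw [mul_comm]; exact hyy'
  obtain ⟨c', hc'⟩ : ∃ c' : Algebra.adjoin K ({y, yi} : Set (Matrix (Fin n) (Fin n) K)),
      c' = e₁ * (1 + y') + e₀ * (algebraMap K _ (ω - sigma hK ω) +
        algebraMap K _ (sigma hK ω) * (1 + y')) := ⟨_, rfl⟩
  rw [← hc'] at hunit
  obtain ⟨c'', hc''⟩ : ∃ c'' : Algebra.adjoin K ({y, yi} : Set (Matrix (Fin n) (Fin n) K)),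
      c'' = (1 + yi') * e₁ + (algebraMap K _ (sigma hK ω) + algebraMap K _ ω * yi') * e₀ :=
    ⟨_, rfl⟩
  have hcc : c'' * y' = c' := by
    rw [hc', hc'', map_sub]
    linear_combination (e₁ + algebraMap K _ ω * e₀) * hyiy'
  -- every element of the algebra commutes with `A`
  have hcent : ∀ z : Algebra.adjoin K ({y, yi} : Set (Matrix (Fin n) (Fin n) K)),
      A * (z : Matrix (Fin n) (Fin n) K) = (z : Matrix (Fin n) (Fin n) K) * A := by
    have hle : Algebra.adjoin K ({y, yi} : Set (Matrix (Fin n) (Fin n) K)) ≤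
        Subalgebra.centralizer K {A} := by
      apply Algebra.adjoin_le
      intro z hz
      rw [SetLike.mem_coe, Subalgebra.mem_centralizer_iff]
      intro g hg
      rw [Set.mem_singleton_iff] at hg
      subst hg
      rcases hz with rfl | rfl
      · exact hyA.symm
      · exact hyiA.symm
    intro z
    have := hle z.2
    rw [Subalgebra.mem_centralizer_iff] at this
    exact this A (Set.mem_singleton A)
  -- the idempotents are fixed by the twisted involution
  have hτ : ∀ f : (fixedField hK)[X],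
      cT hK ((ev f : Algebra.adjoin K ({y, yi} : Set (Matrix (Fin n) (Fin n) K))) :
        Matrix (Fin n) (Fin n) K) * x =
      x * ((ev f : Algebra.adjoin K ({y, yi} : Set (Matrix (Fin n) (Fin n) K))) :
        Matrix (Fin n) (Fin n) K) := by
    intro f
    rw [hevc, cT_aeval, fixed_map_sigma]
    exact semiconj_aeval hcs _
  obtain ⟨E₁, hE₁⟩ : ∃ E₁ : Matrix (Fin n) (Fin n) K, E₁ = (e₁ : Matrix (Fin n) (Fin n) K) :=
    ⟨_, rfl⟩
  obtain ⟨E₀, hE₀⟩ : ∃ E₀ : Matrix (Fin n) (Fin n) K, E₀ = (e₀ : Matrix (Fin n) (Fin n) K) :=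
    ⟨_, rfl⟩
  have hτ1 : cT hK E₁ * x = x * E₁ := by rw [hE₁, he₁]; exact hτ _
  have hτ0 : cT hK E₀ * x = x * E₀ := by rw [hE₀, he₀]; exact hτ _
  obtain ⟨c, hc⟩ : ∃ c : Matrix (Fin n) (Fin n) K, c = (c' : Matrix (Fin n) (Fin n) K) :=
    ⟨_, rfl⟩
  have hcmat : c = E₁ * (1 + y) + E₀ * (ω • (1 : Matrix (Fin n) (Fin n) K) + sigma hK ω • y) := by
    rw [hc, hc', Subalgebra.coe_add, Subalgebra.coe_mul, Subalgebra.coe_mul, Subalgebra.coe_add,
      Subalgebra.coe_add, Subalgebra.coe_mul, Subalgebra.coe_add, Subalgebra.coe_one,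
      Subalgebra.coe_algebraMap, Subalgebra.coe_algebraMap, hy', ← hE₁, ← hE₀,
      Algebra.algebraMap_eq_smul_one, Algebra.algebraMap_eq_smul_one, smul_mul_assoc,
      Matrix.one_mul, smul_add, sub_smul]
    congr 2
    abel
  have hc''mat : (c'' : Matrix (Fin n) (Fin n) K) =
      (1 + yi) * E₁ + (sigma hK ω • (1 : Matrix (Fin n) (Fin n) K) + ω • yi) * E₀ := by
    rw [hc'', Subalgebra.coe_add, Subalgebra.coe_mul, Subalgebra.coe_mul, Subalgebra.coe_add,
      Subalgebra.coe_add, Subalgebra.coe_mul, Subalgebra.coe_one,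
      Subalgebra.coe_algebraMap, Subalgebra.coe_algebraMap, hyi', ← hE₁, ← hE₀,
      Algebra.algebraMap_eq_smul_one, Algebra.algebraMap_eq_smul_one, smul_mul_assoc,
      Matrix.one_mul]
  have hcx : cT hK c * x = x * (c'' : Matrix (Fin n) (Fin n) K) := by
    rw [hcmat, hc''mat, cT_add, cT_mul, cT_mul, cT_add, cT_add, cT_one, cT_smul, cT_smul, cT_one,
      sigma_sigma, Matrix.add_mul, Matrix.mul_assoc, hτ1, Matrix.mul_assoc, hτ0, Matrix.mul_add,
      ← Matrix.mul_assoc, ← Matrix.mul_assoc, ← Matrix.mul_assoc, ← Matrix.mul_assoc]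
    congr 2
    · rw [Matrix.add_mul, Matrix.one_mul, hcy, Matrix.mul_add, Matrix.mul_one]
    · rw [Matrix.add_mul, Matrix.smul_mul, Matrix.one_mul, Matrix.smul_mul, hcy, Matrix.mul_add,
        Matrix.mul_smul, Matrix.mul_one, Matrix.mul_smul]
  have hccmat : (c'' : Matrix (Fin n) (Fin n) K) * y = c := by
    rw [hc, ← hcc, Subalgebra.coe_mul, hy']
  refine ⟨x * c, ?_, ?_, ?_⟩
  · rw [cT_mul, hxs, ← Matrix.mul_assoc, hcx, Matrix.mul_assoc, hccmat]
  · rw [Matrix.det_mul]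
    have hxd : x.det ≠ 0 := by
      intro h0
      have := congrArg Matrix.det hx1
      rw [Matrix.det_mul, h0, zero_mul, Matrix.det_one] at this
      exact zero_ne_one this
    have hcu : IsUnit c := by
      rw [hc]
      exact hunit.map (Subalgebra.val _)
    exact mul_ne_zero hxd ((Matrix.isUnit_iff_isUnit_det c).1 hcu).ne_zero
  · have hAc : A * c = c * A := by rw [hc]; exact hcent c'
    calc cT hK A * (x * c) * A = cT hK A * x * (c * A) := by simp only [Matrix.mul_assoc]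
      _ = cT hK A * x * (A * c) := by rw [hAc]
      _ = (cT hK A * x * A) * c := by simp only [Matrix.mul_assoc]
      _ = x * c := by rw [hA]

end main

end Cfsg.Agent.Lib.Helper5.UnitConj
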