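import Mathlib
import Cfsg.Agent.Lib.Helper5.UnitConj.Pencil

set_option autoImplicit false

/-!
# Matrices similar to a unitary matrix
-/

namespace Cfsg.Agent.Lib.Helper5.UnitConj

open Polynomial Matrix Cfsg Cfsg.Agent.Lib.Helper5.HermBridge

universe u

section similar
variable {K : Type u} [Field K] [Fintype K] {q : ℕ} (hK : Fintype.card K = q ^ 2) {n : ℕ}

include hK in
/-- **A matrix is similar to a unitary one iff it is similar to its inverse conjugate
transpose.** -/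
theorem similar_unitary_iff (A : GL (Fin n) K) :
    (∃ B : ↥(Cfsg.GU n K q), IsConj A (B : GL (Fin n) K)) ↔
      IsConj (A : Matrix (Fin n) (Fin n) K)
        (((A : Matrix (Fin n) (Fin n) K).map (fun x : K => x ^ q)).transpose)⁻¹ := by
  obtain ⟨MA, hMA⟩ : ∃ M : Matrix (Fin n) (Fin n) K, M = (A : Matrix (Fin n) (Fin n) K) :=
    ⟨_, rfl⟩
  obtain ⟨Ai, hAi⟩ : ∃ M : Matrix (Fin n) (Fin n) K, M = ((A⁻¹ : GL (Fin n) K) : Matrix _ _ K) :=
    ⟨_, rfl⟩
  have hA1 : MA * Ai = 1 := by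
    rw [hMA, hAi, ← Units.val_mul, mul_inv_cancel, Units.val_one]
  have hA2 : Ai * MA = 1 := mul_eq_one_comm.1 hA1
  have hcTA : ((A : Matrix (Fin n) (Fin n) K).map (fun x : K => x ^ q)).transpose = cT hK MA := by
    rw [hMA]
    rfl
  have hcTu : IsUnit (cT hK MA).det := by
    rw [det_cT]
    have : MA.det ≠ 0 := by
      intro h0
      have := congrArg Matrix.det hA1
      rw [Matrix.det_mul, h0, zero_mul, Matrix.det_one] at this
      exact zero_ne_one this
    exact isUnit_iff_ne_zero.2 ((_root_.map_ne_zero _).2 this)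
  rw [hcTA, ← hMA]
  constructor
  · rintro ⟨B, hB⟩
    obtain ⟨c, hc⟩ := isConj_iff.1 hB
    obtain ⟨C, hC⟩ : ∃ M : Matrix (Fin n) (Fin n) K, M = (c : Matrix (Fin n) (Fin n) K) :=
      ⟨_, rfl⟩
    obtain ⟨Ci, hCi⟩ : ∃ M : Matrix (Fin n) (Fin n) K,
        M = ((c⁻¹ : GL (Fin n) K) : Matrix (Fin n) (Fin n) K) := ⟨_, rfl⟩
    obtain ⟨MB, hMB⟩ : ∃ M : Matrix (Fin n) (Fin n) K,
        M = ((B : GL (Fin n) K) : Matrix (Fin n) (Fin n) K) := ⟨_, rfl⟩
    have hC1 : C * Ci = 1 := by rw [hC, hCi, ← Units.val_mul, mul_inv_cancel, Units.val_one]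
    have hC2 : Ci * C = 1 := mul_eq_one_comm.1 hC1
    have hBU : cT hK MB * MB = 1 := by rw [hMB]; exact (mem_GU_iff_cT hK _).1 B.2
    have hCAB : C * MA = MB * C := by
      have h1 : c * A = (B : GL (Fin n) K) * c := by rw [← hc, inv_mul_cancel_right]
      have := congrArg (fun g : GL (Fin n) K => (g : Matrix (Fin n) (Fin n) K)) h1
      simp only [Units.val_mul] at this
      rw [hC, hMA, hMB]
      exact this
    have hd : cT hK MA * (cT hK C * C) * MA = cT hK C * C := by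
      calc cT hK MA * (cT hK C * C) * MA = cT hK (C * MA) * (C * MA) := by
            rw [cT_mul]; simp only [Matrix.mul_assoc]
        _ = cT hK C * (cT hK MB * MB) * C := by
            rw [hCAB, cT_mul]; simp only [Matrix.mul_assoc]
        _ = cT hK C * C := by rw [hBU, Matrix.mul_one]
    refine ⟨⟨cT hK C * C, Ci * cT hK Ci, ?_, ?_⟩, ?_⟩
    · calc cT hK C * C * (Ci * cT hK Ci) = cT hK C * (C * Ci) * cT hK Ci := by
            simp only [Matrix.mul_assoc]
        _ = 1 := by rw [hC1, Matrix.mul_one, ← cT_mul, hC2, cT_one]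
    · calc Ci * cT hK Ci * (cT hK C * C) = Ci * (cT hK Ci * cT hK C) * C := by
            simp only [Matrix.mul_assoc]
        _ = 1 := by rw [← cT_mul, hC1, cT_one, Matrix.mul_one, hC2]
    · show cT hK C * C * MA = (cT hK MA)⁻¹ * (cT hK C * C)
      conv_rhs => rw [← hd]
      rw [Matrix.mul_assoc (cT hK MA), ← Matrix.mul_assoc (cT hK MA)⁻¹,
        Matrix.nonsing_inv_mul _ hcTu, Matrix.one_mul]
  · rintro ⟨d, hd⟩
    obtain ⟨x, hx⟩ : ∃ x : Matrix (Fin n) (Fin n) K, x = (d : Matrix (Fin n) (Fin n) K) :=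
      ⟨_, rfl⟩
    obtain ⟨xi, hxi⟩ : ∃ xi : Matrix (Fin n) (Fin n) K,
        xi = ((d⁻¹ : (Matrix (Fin n) (Fin n) K)ˣ) : Matrix (Fin n) (Fin n) K) := ⟨_, rfl⟩
    have hx1 : x * xi = 1 := by rw [hx, hxi, ← Units.val_mul, mul_inv_cancel, Units.val_one]
    have hd' : x * MA = (cT hK MA)⁻¹ * x := by rw [hx]; exact hd
    have hA : cT hK MA * x * MA = x := by
      rw [Matrix.mul_assoc, hd', ← Matrix.mul_assoc, Matrix.mul_nonsing_inv _ hcTu, Matrix.one_mul]
    obtain ⟨h, hh1, hh2, hh3⟩ := exists_hermitian_invariant hK MA Ai x xi hA1 hx1 hA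
    obtain ⟨P, hP⟩ := exists_cT_mul_self hK h hh1 hh2
    obtain ⟨b, hb⟩ : ∃ b : Matrix (Fin n) (Fin n) K, b = aeval h P := ⟨_, rfl⟩
    rw [← hb] at hP
    have hbdet : b.det ≠ 0 := by
      intro h0
      apply hh2
      rw [← hP, Matrix.det_mul, h0, mul_zero]
    have hbu : IsUnit b.det := isUnit_iff_ne_zero.2 hbdet
    obtain ⟨bG, hbG⟩ : ∃ bG : GL (Fin n) K, (bG : Matrix (Fin n) (Fin n) K) = b :=
      ⟨⟨b, b⁻¹, Matrix.mul_nonsing_inv _ hbu, Matrix.nonsing_inv_mul _ hbu⟩, rfl⟩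
    obtain ⟨bi, hbi⟩ : ∃ bi : Matrix (Fin n) (Fin n) K,
        bi = ((bG⁻¹ : GL (Fin n) K) : Matrix (Fin n) (Fin n) K) := ⟨_, rfl⟩
    have hb1 : b * bi = 1 := by rw [← hbG, hbi, ← Units.val_mul, mul_inv_cancel, Units.val_one]
    have hmem : bG * A * bG⁻¹ ∈ Cfsg.GU n K q := by
      rw [mem_GU_iff_cT hK]
      have hval : ((bG * A * bG⁻¹ : GL (Fin n) K) : Matrix (Fin n) (Fin n) K) = b * MA * bi := by
        rw [Units.val_mul, Units.val_mul, hbG, ← hMA, ← hbi]
      rw [hval]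
      calc cT hK (b * MA * bi) * (b * MA * bi)
          = cT hK bi * (cT hK MA * (cT hK b * b) * MA) * bi := by
            rw [cT_mul, cT_mul]; simp only [Matrix.mul_assoc]
        _ = cT hK bi * (cT hK b * b) * bi := by rw [hP, hh3, ← hP]
        _ = cT hK (b * bi) * (b * bi) := by rw [cT_mul]; simp only [Matrix.mul_assoc]
        _ = 1 := by rw [hb1, cT_one, Matrix.one_mul]
    exact ⟨⟨bG * A * bG⁻¹, hmem⟩, isConj_iff.2 ⟨bG, rfl⟩⟩

end similar

end Cfsg.Agent.Lib.Helper5.UnitConj
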