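import Mathlib
import Cfsg.Agent.Lib.Helper5.UnitConj.Similar
import Cfsg.Agent.Lib.Helper4.JordanCount

set_option autoImplicit false

/-!
# Unipotent classes of the unitary group
-/

namespace Cfsg.Agent.Lib.Helper5.UnitConj

open Polynomial Matrix Module Cfsg Cfsg.Agent.Lib.Helper5.HermBridge
open Cfsg.Agent.Lib.Helper5.HermBlock Cfsg.Agent.Lib.Helper4.JordanNil

universe u

section rank
variable {K : Type u} [Field K] [Fintype K] {q : ℕ} (hK : Fintype.card K = q ^ 2) {n : ℕ}

theorem mulVec_sigma (M : Matrix (Fin n) (Fin n) K) (v : Fin n → K) :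
    (M.map (sigma hK)) *ᵥ (fun j => sigma hK (v j)) = fun i => sigma hK ((M *ᵥ v) i) := by
  funext i
  exact (mulVec_pow hK M v i).symm

theorem map_sigma_map_sigma (M : Matrix (Fin n) (Fin n) K) :
    (M.map (sigma hK)).map (sigma hK) = M := by
  ext i j
  rw [Matrix.map_apply, Matrix.map_apply, sigma_sigma]

/-- the kernels of `M` and `M^σ` correspond -/
def kerEquiv (M : Matrix (Fin n) (Fin n) K) :
    LinearMap.ker M.mulVecLin ≃ LinearMap.ker (M.map (sigma hK)).mulVecLin where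
  toFun v := ⟨fun j => sigma hK (v.1 j), by
    have h := v.2
    rw [LinearMap.mem_ker, Matrix.mulVecLin_apply] at h ⊢
    rw [mulVec_sigma, h]
    funext i
    exact map_zero _⟩
  invFun w := ⟨fun j => sigma hK (w.1 j), by
    have h := w.2
    rw [LinearMap.mem_ker, Matrix.mulVecLin_apply] at h ⊢
    have h2 := mulVec_sigma hK (M.map (sigma hK)) w.1
    rw [map_sigma_map_sigma, h] at h2
    rw [h2]
    funext i
    exact map_zero _⟩
  left_inv v := Subtype.ext (funext fun j => sigma_sigma hK _)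
  right_inv w := Subtype.ext (funext fun j => sigma_sigma hK _)

theorem rank_map_sigma (M : Matrix (Fin n) (Fin n) K) : (M.map (sigma hK)).rank = M.rank := by
  have h1 := LinearMap.finrank_range_add_finrank_ker M.mulVecLin
  have h2 := LinearMap.finrank_range_add_finrank_ker (M.map (sigma hK)).mulVecLin
  have hc := Nat.card_congr (kerEquiv hK M)
  have e1 : Nat.card (LinearMap.ker M.mulVecLin) =
      Nat.card K ^ finrank K (LinearMap.ker M.mulVecLin) := Module.natCard_eq_pow_finrank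
  have e2 : Nat.card (LinearMap.ker (M.map (sigma hK)).mulVecLin) =
      Nat.card K ^ finrank K (LinearMap.ker (M.map (sigma hK)).mulVecLin) :=
    Module.natCard_eq_pow_finrank
  rw [e1, e2] at hc
  have h2K : 2 ≤ Nat.card K := by
    rw [Nat.card_eq_fintype_card]
    exact Fintype.one_lt_card
  have h3 := Nat.pow_right_injective h2K hc
  unfold Matrix.rank
  omega

theorem rank_cT (M : Matrix (Fin n) (Fin n) K) : (cT hK M).rank = M.rank := by
  unfold cT
  rw [Matrix.rank_transpose, rank_map_sigma]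

theorem cT_sub (M N : Matrix (Fin n) (Fin n) K) : cT hK (M - N) = cT hK M - cT hK N := by
  ext i j
  rw [Matrix.sub_apply, cT_apply, cT_apply, cT_apply, Matrix.sub_apply, map_sub]

/-- the automorphism `g ↦ (g*)⁻¹` of `GL_n` -/
def theta : GL (Fin n) K →* GL (Fin n) K where
  toFun g := ⟨cT hK ((g⁻¹ : GL (Fin n) K) : Matrix (Fin n) (Fin n) K),
    cT hK (g : Matrix (Fin n) (Fin n) K),
    by rw [← cT_mul, ← Units.val_mul, mul_inv_cancel, Units.val_one, cT_one],
    by rw [← cT_mul, ← Units.val_mul, inv_mul_cancel, Units.val_one, cT_one]⟩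
  map_one' := Units.ext (by
    show cT hK ((1⁻¹ : GL (Fin n) K) : Matrix (Fin n) (Fin n) K) = 1
    rw [inv_one, Units.val_one, cT_one])
  map_mul' g h := Units.ext (by
    show cT hK (((g * h)⁻¹ : GL (Fin n) K) : Matrix (Fin n) (Fin n) K) =
      cT hK ((g⁻¹ : GL (Fin n) K) : Matrix (Fin n) (Fin n) K) *
        cT hK ((h⁻¹ : GL (Fin n) K) : Matrix (Fin n) (Fin n) K)
    rw [_root_.mul_inv_rev, Units.val_mul, cT_mul])

theorem theta_val (g : GL (Fin n) K) : ((theta hK g : GL (Fin n) K) : Matrix (Fin n) (Fin n) K) =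
    cT hK ((g⁻¹ : GL (Fin n) K) : Matrix (Fin n) (Fin n) K) := rfl

theorem theta_val_eq_inv (g : GL (Fin n) K) :
    ((theta hK g : GL (Fin n) K) : Matrix (Fin n) (Fin n) K) =
      (cT hK (g : Matrix (Fin n) (Fin n) K))⁻¹ := by
  rw [theta_val]
  symm
  apply Matrix.inv_eq_right_inv
  rw [← cT_mul, ← Units.val_mul, inv_mul_cancel, Units.val_one, cT_one]

theorem rank_theta (g : GL (Fin n) K) (k : ℕ) :
    ((((theta hK g : GL (Fin n) K) : Matrix (Fin n) (Fin n) K) - 1) ^ k).rank =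
      (((g : Matrix (Fin n) (Fin n) K) - 1) ^ k).rank := by
  obtain ⟨um, hum⟩ : ∃ um : Matrix (Fin n) (Fin n) K, um = (g : Matrix (Fin n) (Fin n) K) :=
    ⟨_, rfl⟩
  obtain ⟨ui, hui⟩ : ∃ ui : Matrix (Fin n) (Fin n) K,
      ui = ((g⁻¹ : GL (Fin n) K) : Matrix (Fin n) (Fin n) K) := ⟨_, rfl⟩
  have h1 : ui * um = 1 := by rw [hum, hui, ← Units.val_mul, inv_mul_cancel, Units.val_one]
  have h2 : um * ui = 1 := mul_eq_one_comm.1 h1
  rw [theta_val, ← hui, ← hum]
  have e1 : cT hK ui - 1 = cT hK (ui - 1) := by rw [cT_sub, cT_one]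
  have e2 : ui - 1 = (-ui) * (um - 1) := by
    rw [Matrix.mul_sub, Matrix.neg_mul, h1, Matrix.mul_one]
    abel
  have hcomm : Commute (-ui) (um - 1) := by
    show (-ui) * (um - 1) = (um - 1) * (-ui)
    rw [Matrix.mul_sub, Matrix.sub_mul, Matrix.neg_mul, Matrix.mul_neg, h1, h2, Matrix.mul_one,
      Matrix.one_mul]
  have hdet : IsUnit ((-ui) ^ k).det := by
    rw [Matrix.det_pow]
    apply IsUnit.pow
    rw [Matrix.det_neg]
    have : ui.det ≠ 0 := by
      intro h0
      have := congrArg Matrix.det h1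
      rw [Matrix.det_mul, h0, zero_mul, Matrix.det_one] at this
      exact zero_ne_one this
    exact isUnit_iff_ne_zero.2 (mul_ne_zero (pow_ne_zero _ (neg_ne_zero.2 one_ne_zero)) this)
  rw [e1, ← cT_pow, rank_cT, e2, hcomm.mul_pow, Matrix.rank_mul_eq_right_of_isUnit_det _ _ hdet]

end rank

section conj
variable {K : Type u} [Field K] [Fintype K] {q : ℕ} (hK : Fintype.card K = q ^ 2) {n : ℕ}

omit [Fintype K] in
/-- unipotent elements with the same ranks of powers of `g - 1` are conjugate -/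
theorem isConj_of_rank_eq (p : ℕ) [Fact p.Prime] [CharP K p] (g h : GL (Fin n) K)
    (hg : Unip p g) (hh : Unip p h)
    (hr : ∀ k, (((g : Matrix (Fin n) (Fin n) K) - 1) ^ k).rank =
      (((h : Matrix (Fin n) (Fin n) K) - 1) ^ k).rank) : IsConj g h := by
  obtain ⟨μ, hμ⟩ := exists_hasType p g hg
  obtain ⟨μ', hμ'⟩ := exists_hasType p h hh
  have heq : μ = μ' := by
    obtain ⟨t, e, b, hpos, hJ, hμe⟩ := hμ
    obtain ⟨t', e', b', hpos', hJ', hμe'⟩ := hμ'
    have hS : ∀ k, ∑ i, (e i - k) = ∑ i, (e' i - k) := by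
      intro k
      rw [← hJ.finrank_range_pow, ← hJ'.finrank_range_pow, Nof_pow, Nof_pow, Matrix.toLin'_apply',
        Matrix.toLin'_apply']
      exact hr k
    ext v
    rw [← hμe, ← hμe', ← card_filter_eq_count, ← card_filter_eq_count]
    exact card_fiber_eq_of_sums e e' hpos hpos' hS v
  subst heq
  exact hμ.isConj hμ'

include hK in
theorem unip_theta (p : ℕ) [Fact p.Prime] (g : GL (Fin n) K) (hg : Unip p g) :
    Unip p (theta hK g) := by
  obtain ⟨k, hk⟩ := hg
  have h1 : (theta hK g) ^ (p ^ k) = 1 := by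
    rw [← map_pow, ← hk, pow_orderOf_eq_one, map_one]
  obtain ⟨j, -, hj⟩ := (Nat.dvd_prime_pow (Fact.out : p.Prime)).1 (orderOf_dvd_of_pow_eq_one h1)
  exact ⟨j, hj⟩

include hK in
/-- **Every unipotent matrix is similar to a unitary one.** -/
theorem exists_gu_isConj_of_unip (p : ℕ) [Fact p.Prime] [CharP K p] (g : GL (Fin n) K)
    (hg : Unip p g) : ∃ B : ↥(Cfsg.GU n K q), IsConj g (B : GL (Fin n) K) := by
  rw [similar_unitary_iff hK]
  have hc := isConj_of_rank_eq p g (theta hK g) hg (unip_theta hK p g hg)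
    (fun k => (rank_theta hK g k).symm)
  obtain ⟨c, hc⟩ := isConj_iff.1 hc
  have hcT : (((g : Matrix (Fin n) (Fin n) K).map (fun x : K => x ^ q)).transpose)⁻¹ =
      ((theta hK g : GL (Fin n) K) : Matrix (Fin n) (Fin n) K) := by
    rw [theta_val_eq_inv]
    rfl
  rw [hcT]
  refine ⟨c, ?_⟩
  show (c : Matrix (Fin n) (Fin n) K) * (g : Matrix (Fin n) (Fin n) K) =
    ((theta hK g : GL (Fin n) K) : Matrix (Fin n) (Fin n) K) * (c : Matrix (Fin n) (Fin n) K)
  have h1 : c * g = theta hK g * c := by rw [← hc, inv_mul_cancel_right]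
  have := congrArg (fun u : GL (Fin n) K => (u : Matrix (Fin n) (Fin n) K)) h1
  simpa only [Units.val_mul] using this

include hK in
/-- **The classes of elements of order `p` in `GU_n(q)`.** -/
theorem card_gu_order_p_classes (p : ℕ) [Fact p.Prime] [CharP K p] :
    Nat.card {C : ConjClasses ↥(Cfsg.GU n K q) //
      ∃ g : ↥(Cfsg.GU n K q), ConjClasses.mk g = C ∧ orderOf g = p} =
      (Finset.univ.filter (fun μ : Nat.Partition n => ∀ a ∈ μ.parts, a ≤ p)).card - 1 := by
  rw [← card_order_p_classes (F := K) (n := n) p]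
  have hΦ : ∀ C : {C : ConjClasses ↥(Cfsg.GU n K q) //
      ∃ g : ↥(Cfsg.GU n K q), ConjClasses.mk g = C ∧ orderOf g = p},
      ∃ g : GL (Fin n) K, ConjClasses.mk g = ConjClasses.map (Cfsg.GU n K q).subtype C.1 ∧
        orderOf g = p := by
    rintro ⟨C, g, rfl, hg⟩
    exact ⟨(g : GL (Fin n) K), rfl, by rw [Subgroup.orderOf_coe]; exact hg⟩
  apply Nat.card_congr
  refine Equiv.ofBijective (fun C => ⟨ConjClasses.map (Cfsg.GU n K q).subtype C.1, hΦ C⟩) ⟨?_, ?_⟩
  · rintro ⟨C, g, rfl, hg⟩ ⟨C', g', rfl, hg'⟩ hCC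
    have h1 := congrArg Subtype.val hCC
    apply Subtype.ext
    change ConjClasses.mk ((g : GL (Fin n) K)) = ConjClasses.mk ((g' : GL (Fin n) K)) at h1
    rw [ConjClasses.mk_eq_mk_iff_isConj] at h1
    show ConjClasses.mk g = ConjClasses.mk g'
    rw [ConjClasses.mk_eq_mk_iff_isConj]
    exact gu_isConj_of_gl_isConj hK g g' h1
  · rintro ⟨D, u, rfl, hu⟩
    have hunip : Unip p u := ⟨1, by rw [pow_one]; exact hu⟩
    obtain ⟨B, hB⟩ := exists_gu_isConj_of_unip hK p u hunip
    obtain ⟨c, hc⟩ := isConj_iff.1 hB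
    have hBo : orderOf B = p := by
      rw [← Subgroup.orderOf_coe, ← hc, ← hu]
      exact (MulAut.conj c).orderOf_eq u
    refine ⟨⟨ConjClasses.mk B, B, rfl, hBo⟩, ?_⟩
    apply Subtype.ext
    show ConjClasses.mk ((B : GL (Fin n) K)) = ConjClasses.mk u
    rw [ConjClasses.mk_eq_mk_iff_isConj]
    exact hB.symm

end conj

end Cfsg.Agent.Lib.Helper5.UnitConj
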